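import Groth.Agent.SmDense12.Model

/-!
# Immersions étale over the base are schematically dominant
-/

set_option autoImplicit false
universe u

open CategoryTheory CategoryTheory.Limits AlgebraicGeometry
open scoped TensorProduct

namespace Groth.Agent.SmDense12

/-- Pullback of a section to an affine scheme mapping into an affine open. -/
theorem app_eq_zero_imp {X : Scheme.{u}} {W V : X.Opens} (hW : IsAffineOpen W) (hWV : W ≤ V) {R : CommRingCat.{u}}
    (π : Γ(X, W) ⟶ R) (t : Γ(X, V)) (h : (Spec.map π ≫ hW.fromSpec).app V t = 0) :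
    π (X.presheaf.map (homOfLE hWV).op t) = 0 := by
  have e : (⊤ : (Spec R).Opens) ≤ (Spec.map π ≫ hW.fromSpec) ⁻¹ᵁ V := fun x _ => by
    refine hWV ?_
    show hW.fromSpec (Spec.map π x) ∈ (W : Set X)
    rw [← hW.range_fromSpec]
    exact Set.mem_range_self _
  have h1 : (Spec.map π ≫ hW.fromSpec).appLE V ⊤ e t = 0 := by
    rw [Scheme.Hom.appLE, CommRingCat.comp_apply, h, map_zero]
  have e' : (⊤ : (Spec R).Opens) ≤ (Spec.map π ≫ hW.fromSpec) ⁻¹ᵁ W := fun x _ => by
    show hW.fromSpec (Spec.map π x) ∈ (W : Set X)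
    rw [← hW.range_fromSpec]
    exact Set.mem_range_self _
  rw [← Scheme.Hom.map_appLE (Spec.map π ≫ hW.fromSpec) e' (homOfLE hWV).op] at h1
  have h2 : (Spec.map π ≫ hW.fromSpec).appLE W ⊤ e' = π ≫ (Scheme.ΓSpecIso R).inv := by
    have e₁ : (⊤ : (Spec Γ(X, W)).Opens) ≤ hW.fromSpec ⁻¹ᵁ W := hW.fromSpec_preimage_self.ge
    have e₂ : (⊤ : (Spec R).Opens) ≤ Spec.map π ⁻¹ᵁ ⊤ := fun _ _ => trivial
    rw [← Scheme.Hom.appLE_comp_appLE (Spec.map π) hW.fromSpec W ⊤ ⊤ e₁ e₂]
    have h3 : hW.fromSpec.appLE W ⊤ e₁ = (Scheme.ΓSpecIso Γ(X, W)).inv := by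
      rw [Scheme.Hom.appLE, IsAffineOpen.fromSpec_app_self, Category.assoc, ← Functor.map_comp]
      exact (congrArg (fun m => (Scheme.ΓSpecIso Γ(X, W)).inv ≫ (Spec Γ(X, W)).presheaf.map m)
        (Subsingleton.elim _ (𝟙 _))).trans (by simp)
    rw [h3, Scheme.ΓSpecIso_inv_naturality]
    simp [Scheme.Hom.appLE]
  rw [h2, CommRingCat.comp_apply, CommRingCat.comp_apply] at h1
  exact (Scheme.ΓSpecIso R).symm.commRingCatIsoToRingEquiv.injective (h1.trans (map_zero _).symm)

/-- Base changes of immersions étale over `S` detect sections (EGA IV 17.16.3 style). -/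
theorem eq_zero_of_forall_baseChange {S S' B' : Scheme.{u}} (g : S' ⟶ S) [Smooth g]
    (q : B' ⟶ S') [Flat q] [LocallyOfFinitePresentation q] (V : B'.Opens) (t : Γ(B', V))
    (h : ∀ (Z : Scheme.{u}) (j : Z ⟶ S'), IsImmersion j → Etale (j ≫ g) → (pullback.snd j q).app V t = 0) :
    t = 0 := by
  have hloc : ∀ z : V, ∃ (W' : B'.Opens) (hle : W' ≤ V), (z : B') ∈ W' ∧ B'.presheaf.map (homOfLE hle).op t = 0 := by
    intro z
    obtain ⟨U, hU, W, hW, hzW, eW, hstd⟩ := Smooth.exists_isStandardSmooth g (q z)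
    obtain ⟨W', hW', hzW', hW'le⟩ := exists_isAffineOpen_mem_and_subset (U := V ⊓ q ⁻¹ᵁ W) (x := (z : B')) ⟨z.2, hzW⟩
    refine ⟨W', fun x hx => (hW'le hx).1, hzW', ?_⟩
    obtain ⟨n, γ, hγ, hγet⟩ := RingHom.IsStandardSmooth.exists_etale_mvPolynomial hstd
    let A := Γ(S, U)
    let P := MvPolynomial (Fin n) A
    let B := Γ(S', W)
    let C := Γ(B', W')
    have eW' : W' ≤ q ⁻¹ᵁ W := fun x hx => (hW'le hx).2
    letI : Algebra P B := γ.toAlgebra
    haveI : Algebra.Etale P B := hγet
    letI : Algebra B C := (q.appLE W W' eW').hom.toAlgebra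
    haveI : Module.Flat B C := q.flat_appLE hW hW' eW'
    haveI : Algebra.FinitePresentation B C := q.finitePresentation_appLE hW hW' eW'
    letI : Algebra P C := ((algebraMap B C).comp (algebraMap P B)).toAlgebra
    haveI : IsScalarTower P B C := IsScalarTower.of_algebraMap_eq fun _ => rfl
    haveI : Module.Flat P C := Module.Flat.trans P B C
    haveI : Algebra.FinitePresentation P C := Algebra.FinitePresentation.trans P B C
    letI : Algebra A C := ((algebraMap P C).comp MvPolynomial.C).toAlgebra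
    haveI : IsScalarTower A P C := IsScalarTower.of_algebraMap_eq fun _ => rfl
    letI : Algebra A B := (g.appLE U W eW).hom.toAlgebra
    haveI : IsScalarTower A P B := IsScalarTower.of_algebraMap_eq' hγ.symm
    refine eq_zero_of_forall_tmul_eq_zero' (A := A) (n := n) (C := C) _ fun N => ?_
    let Q := RtQ A n N
    haveI : Algebra.Etale A Q := rtQ_etale A n N
    let R := Q ⊗[P] B
    let ρ : CommRingCat.of B ⟶ CommRingCat.of R :=
      CommRingCat.ofHom (Algebra.TensorProduct.includeRight (R := P) (A := Q) (B := B)).toRingHom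
    let π₁ : CommRingCat.of P ⟶ CommRingCat.of Q := CommRingCat.ofHom (algebraMap P Q)
    haveI : IsImmersion (Spec.map π₁) := by
      let a₁ : CommRingCat.of P ⟶ CommRingCat.of (P ⧸ rtIdeal A n N) :=
        CommRingCat.ofHom (algebraMap P (P ⧸ rtIdeal A n N))
      let a₂ : CommRingCat.of (P ⧸ rtIdeal A n N) ⟶ CommRingCat.of Q :=
        CommRingCat.ofHom (algebraMap (P ⧸ rtIdeal A n N) Q)
      haveI : IsClosedImmersion (Spec.map a₁) := IsClosedImmersion.spec_of_surjective _ Ideal.Quotient.mk_surjective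
      haveI : IsOpenImmersion (Spec.map a₂) :=
        IsOpenImmersion.of_isLocalization (S := Q) (N : P ⧸ rtIdeal A n N)
      rw [show π₁ = a₁ ≫ a₂ from CommRingCat.hom_ext (IsScalarTower.algebraMap_eq P (P ⧸ rtIdeal A n N) Q),
        Spec.map_comp]
      infer_instance
    haveI : IsImmersion (Spec.map ρ) := by
      have hpb := isPullback_SpecMap_of_isPushout _ _ _ _
        (CommRingCat.isPushout_tensorProduct P Q B)
      exact MorphismProperty.of_isPullback (P := @IsImmersion) hpb ‹IsImmersion (Spec.map π₁)›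
    let j : Spec (CommRingCat.of R) ⟶ S' := Spec.map ρ ≫ hW.fromSpec
    haveI : IsImmersion j := inferInstance
    have hjet : Etale (j ≫ g) := by
      have e1 : j ≫ g = Spec.map (g.appLE U W eW ≫ ρ) ≫ hU.fromSpec := by
        show (Spec.map ρ ≫ hW.fromSpec) ≫ g = _
        rw [Category.assoc, ← IsAffineOpen.SpecMap_appLE_fromSpec g hU hW eW, Spec.map_comp, Category.assoc]
      rw [e1]
      have hR : (g.appLE U W eW ≫ ρ).hom = algebraMap A R := by
        show (Algebra.TensorProduct.includeRight (R := P) (A := Q) (B := B)).toRingHom.comp (algebraMap A B) = _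
        rw [IsScalarTower.algebraMap_eq A P B, ← RingHom.comp_assoc,
          show (Algebra.TensorProduct.includeRight (R := P) (A := Q) (B := B)).toRingHom.comp (algebraMap P B) =
            algebraMap P R from (Algebra.TensorProduct.includeRight (R := P) (A := Q) (B := B)).comp_algebraMap,
          ← IsScalarTower.algebraMap_eq]
      haveI : Etale (Spec.map (g.appLE U W eW ≫ ρ)) := by
        rw [HasRingHomProperty.Spec_iff (P := @Etale), hR, RingHom.etale_algebraMap]
        haveI : Algebra.Etale Q R := inferInstance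
        exact Algebra.Etale.comp A Q R
      infer_instance
    -- the point of the base change
    let D := Q ⊗[P] C
    let δ : CommRingCat.of C ⟶ CommRingCat.of D :=
      CommRingCat.ofHom (Algebra.TensorProduct.includeRight (R := P) (A := Q) (B := C)).toRingHom
    let ε : CommRingCat.of R ⟶ CommRingCat.of D :=
      CommRingCat.ofHom (Algebra.TensorProduct.map (AlgHom.id P Q) (IsScalarTower.toAlgHom P B C)).toRingHom
    have hcond : Spec.map ε ≫ j = (Spec.map δ ≫ hW'.fromSpec) ≫ q := by
      rw [Category.assoc, ← IsAffineOpen.SpecMap_appLE_fromSpec q hW hW' eW']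
      show Spec.map ε ≫ Spec.map ρ ≫ hW.fromSpec = _
      rw [← Spec.map_comp_assoc, ← Spec.map_comp_assoc]
      congr 2
    have h0 : (Spec.map δ ≫ hW'.fromSpec).app V t = 0 := by
      have hl := pullback.lift_snd (f := j) (g := q) (Spec.map ε) (Spec.map δ ≫ hW'.fromSpec) hcond
      have e2 : ((pullback.lift (Spec.map ε) (Spec.map δ ≫ hW'.fromSpec) hcond ≫ pullback.snd j q).app V) t = 0 := by
        rw [Scheme.Hom.comp_app]
        erw [CommRingCat.comp_apply, h _ j inferInstance hjet]
        exact map_zero _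
      have key : ∀ m : Spec (CommRingCat.of D) ⟶ B',
          m = pullback.lift (Spec.map ε) (Spec.map δ ≫ hW'.fromSpec) hcond ≫ pullback.snd j q → m.app V t = 0 := by
        rintro _ rfl
        exact e2
      exact key _ hl.symm
    have h1 := app_eq_zero_imp hW' (fun x hx => (hW'le hx).1) δ t h0
    have := congrArg (TensorProduct.comm P Q C) h1
    rwa [map_zero] at this
  choose W' hle hmem hres using hloc
  refine TopCat.Sheaf.eq_of_locally_eq' B'.sheaf W' V (fun z => homOfLE (hle z))
    (fun x hx => TopologicalSpace.Opens.mem_iSup.mpr ⟨⟨x, hx⟩, hmem ⟨x, hx⟩⟩) t 0 fun z => ?_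
  exact (hres z).trans (map_zero _).symm

end Groth.Agent.SmDense12
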