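import Groth.Agent.SmDense12.Quot
import Groth.Agent.FlatOpen.GenFree

/-!
# Sections vanishing on all roots of unity

Let `C` be a flat finite type algebra over `P = A[x₁..xₙ]`, `A` Noetherian, and `t ∈ C` vanish in
`C ⊗[P] RtQ A n N` for all `N`. Then `t = 0`.
-/

set_option autoImplicit false
universe u

namespace Groth.Agent.SmDense12

open MvPolynomial TensorProduct

/-- Vanishing in `C ⊗[P] RtQ` gives vanishing in every `C`-algebra of roots of unity. -/
theorem map_eq_zero_of_tmul {A C E : Type u} [CommRing A] [CommRing C] [CommRing E] {n N : ℕ}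
    [Algebra (MvPolynomial (Fin n) A) C] {t : C}
    (h : t ⊗ₜ[MvPolynomial (Fin n) A] (1 : RtQ A n N) = 0)
    (φ : C →+* E) (hX : ∀ i, φ (algebraMap (MvPolynomial (Fin n) A) C (X i)) ^ N = 1)
    (hN : IsUnit (N : E)) : φ t = 0 := by
  obtain ⟨ψ, hψ⟩ := exists_lift A n N (φ.comp (algebraMap _ C)) hX hN
  letI : Algebra (MvPolynomial (Fin n) A) E := (φ.comp (algebraMap _ C)).toAlgebra
  let φ' : C →ₐ[MvPolynomial (Fin n) A] E := { φ with commutes' := fun _ => rfl }
  let ψ' : RtQ A n N →ₐ[MvPolynomial (Fin n) A] E := { ψ with commutes' := fun r => RingHom.congr_fun hψ r }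
  have := congrArg (Algebra.TensorProduct.lift φ' ψ' fun _ _ => .all _ _) h
  simpa [φ'] using this

/-- The case of a field. -/
theorem eq_zero_field {κ : Type u} [Field κ] {n : ℕ} {F : Type u} [CommRing F]
    [Algebra (MvPolynomial (Fin n) κ) F] [Module.Flat (MvPolynomial (Fin n) κ) F]
    [Algebra.FiniteType (MvPolynomial (Fin n) κ) F] (b : F)
    (h : ∀ (N : ℕ), (N : κ) ≠ 0 → ∀ (E : Type u) [CommRing E] (φ : F →+* E),
      (∀ i, φ (algebraMap (MvPolynomial (Fin n) κ) F (X i)) ^ N = 1) → IsUnit (N : E) → φ b = 0) :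
    b = 0 := by
  classical
  let P := MvPolynomial (Fin n) κ
  obtain ⟨f, hf, hfree⟩ := FlatOpen.isGenFree_of_finiteType P F F
  let L := Localization.Away f
  haveI : Module.Free L (L ⊗[P] F) := hfree
  let bas := Module.Free.chooseBasis L (L ⊗[P] F)
  have hincl : Function.Injective (fun x : F => (1 : L) ⊗ₜ[P] x) := by
    have hinj : Function.Injective (algebraMap P L) :=
      IsLocalization.injective L (powers_le_nonZeroDivisors_of_noZeroDivisors hf)
    have := (Module.Flat.rTensor_preserves_injective_linearMap (M := F) (Algebra.linearMap P L) hinj).comp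
      (TensorProduct.lid P F).symm.injective
    convert this using 1
    funext x
    simp
  refine hincl ?_
  show (1 : L) ⊗ₜ[P] b = (1 : L) ⊗ₜ[P] (0 : F)
  rw [TensorProduct.tmul_zero]
  refine bas.repr.injective (Finsupp.ext fun j => ?_)
  rw [map_zero, Finsupp.zero_apply]
  obtain ⟨⟨g, s⟩, hgs⟩ := IsLocalization.surj (Submonoid.powers f) (bas.repr ((1 : L) ⊗ₜ[P] b) j)
  suffices hg : g * f = 0 by
    rcases mul_eq_zero.1 hg with hg | hg
    · rw [hg, map_zero] at hgs
      exact (IsLocalization.map_units L s).mul_left_eq_zero.1 hgs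
    · exact absurd hg hf
  obtain ⟨N, hN, hNdeg⟩ : ∃ N : ℕ, (N : κ) ≠ 0 ∧ ∀ i, (g * f).degreeOf i < N := by
    let D := Finset.univ.sup fun i => (g * f).degreeOf i
    have hD : ∀ i, (g * f).degreeOf i ≤ D := fun i => Finset.le_sup (f := fun i => (g * f).degreeOf i) (Finset.mem_univ i)
    by_cases h1 : ((D + 1 : ℕ) : κ) = 0
    · refine ⟨D + 2, ?_, fun i => (hD i).trans_lt (by omega)⟩
      intro h2
      push_cast at h1 h2
      exact one_ne_zero (α := κ) (by linear_combination h2 - h1)
    · exact ⟨D + 1, h1, fun i => Nat.lt_succ_of_le (hD i)⟩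
  let K := AlgebraicClosure κ
  haveI : NeZero (N : K) := ⟨fun h0 => hN ((algebraMap κ K).injective (by simpa using h0))⟩
  have hNpos : 0 < N := Nat.pos_of_ne_zero fun h0 => hN (by simp [h0])
  obtain ⟨ζ, hζ⟩ : ∃ ζ : K, IsPrimitiveRoot ζ N :=
    (IsSepClosed.hasEnoughRootsOfUnity K N).exists_primitiveRoot
  suffices hK : MvPolynomial.map (algebraMap κ K) (g * f) = 0 by
    exact MvPolynomial.map_injective _ (algebraMap κ K).injective (hK.trans (map_zero _).symm)
  refine eq_zero_of_eval_zero_at_prod_finset _ (fun _ => Polynomial.nthRootsFinset N (1 : K))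
    (fun i => ?_) fun a ha => ?_
  · rw [hζ.card_nthRootsFinset]
    refine lt_of_le_of_lt ?_ (hNdeg i)
    rw [degreeOf_def, degreeOf_def, degrees_map_of_injective _ (algebraMap κ K).injective]
  · rw [eval_map]
    show eval₂ (algebraMap κ K) a (g * f) = 0
    by_cases hfa : eval₂ (algebraMap κ K) a f = 0
    · rw [eval₂_mul, hfa, mul_zero]
    let ev : P →+* K := eval₂Hom (algebraMap κ K) a
    let evL : L →+* K := IsLocalization.Away.lift f (g := ev) (isUnit_iff_ne_zero.2 hfa)
    letI : Algebra L K := evL.toAlgebra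
    let E := K ⊗[L] (L ⊗[P] F)
    let φ : F →+* E := (Algebra.TensorProduct.includeRight (R := L) (A := K) (B := L ⊗[P] F)).toRingHom.comp
      (Algebra.TensorProduct.includeRight (R := P) (A := L) (B := F)).toRingHom
    have hφ : ∀ p : P, φ (algebraMap P F p) = algebraMap K E (ev p) := fun p => by
      show (1 : K) ⊗ₜ[L] ((1 : L) ⊗ₜ[P] algebraMap P F p) = _
      rw [Algebra.algebraMap_eq_smul_one, ← TensorProduct.smul_tmul, ← Algebra.algebraMap_eq_smul_one,
        show (algebraMap P L p) ⊗ₜ[P] (1 : F) = algebraMap P L p • ((1 : L) ⊗ₜ[P] (1 : F)) by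
          rw [TensorProduct.smul_tmul', smul_eq_mul, mul_one],
        ← TensorProduct.smul_tmul, Algebra.smul_def, mul_one,
        show algebraMap L K (algebraMap P L p) = ev p from IsLocalization.Away.lift_eq f _ p]
      rw [Algebra.TensorProduct.algebraMap_apply]
      rfl
    have hXE : ∀ i, φ (algebraMap P F (X i)) ^ N = 1 := fun i => by
      rw [hφ, ← map_pow, show ev (X i) = a i from eval₂_X _ _ _,
        (Polynomial.mem_nthRootsFinset hNpos (1 : K)).1 (ha i), map_one]
    have hNE : IsUnit (N : E) := by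
      have := RingHom.isUnit_map (algebraMap K (K ⊗[L] (L ⊗[P] F))) (isUnit_iff_ne_zero.2 (NeZero.ne (N : K)))
      rwa [map_natCast] at this
    have hz : φ b = 0 := h N hN E φ hXE hNE
    have hc : algebraMap L K (bas.repr ((1 : L) ⊗ₜ[P] b) j) = 0 := by
      have := congrArg (fun z => (Algebra.TensorProduct.basis K bas).repr z j) hz
      simpa [φ, Algebra.TensorProduct.basis_repr_tmul] using this
    have h2 := congrArg (algebraMap L K) hgs
    rw [map_mul, hc, zero_mul, show algebraMap L K (algebraMap P L g) = ev g from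
      IsLocalization.Away.lift_eq f _ g] at h2
    rw [eval₂_mul, show eval₂ (algebraMap κ K) a g = 0 from h2.symm, zero_mul]

variable {A : Type u} [CommRing A] [IsNoetherianRing A] {n : ℕ} {C : Type u} [CommRing C]
  [Algebra (MvPolynomial (Fin n) A) C] [Algebra A C] [IsScalarTower A (MvPolynomial (Fin n) A) C]
  [Module.Flat (MvPolynomial (Fin n) A) C] [Algebra.FiniteType (MvPolynomial (Fin n) A) C]

/-- Passing to the fibre over a prime. -/
theorem exists_mul_mem_of_fibre (𝔮 : Ideal A) [𝔮.IsPrime] (b : C)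
    (h : ∀ (N : ℕ) (E : Type u) [CommRing E] (φ : C →+* E),
      (∀ i, φ (algebraMap (MvPolynomial (Fin n) A) C (X i)) ^ N = 1) → IsUnit (N : E) →
      (∀ a ∈ 𝔮, φ (algebraMap A C a) = 0) → φ b = 0) :
    ∃ s ∉ 𝔮, algebraMap A C s * b ∈ 𝔮.map (algebraMap A C) := by
  let P := MvPolynomial (Fin n) A
  let κ := FractionRing (A ⧸ 𝔮)
  let Pκ := MvPolynomial (Fin n) κ
  letI := MvPolynomial.algebraMvPolynomial (σ := Fin n) (R := A) (S := κ)
  let F := Pκ ⊗[P] C
  haveI : Module.Flat Pκ F := inferInstance
  haveI : Algebra.FiniteType Pκ F := inferInstance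
  have hzero : (1 : Pκ) ⊗ₜ[P] b = 0 := by
    refine eq_zero_field (κ := κ) (n := n) (F := F) ((1 : Pκ) ⊗ₜ[P] b) fun N _ E _ φ hX hN => ?_
    refine h N E (φ.comp (Algebra.TensorProduct.includeRight (R := P) (A := Pκ) (B := C)).toRingHom)
      (fun i => ?_) hN fun a ha => ?_
    · refine (congrArg (φ · ^ N) ?_).trans (hX i)
      show (1 : Pκ) ⊗ₜ[P] algebraMap P C (X i) = (X i : Pκ) ⊗ₜ[P] (1 : C)
      rw [Algebra.algebraMap_eq_smul_one, ← TensorProduct.smul_tmul, ← Algebra.algebraMap_eq_smul_one]
      congr 1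
      show MvPolynomial.map (algebraMap A κ) (X i) = X i
      simp
    · show φ ((1 : Pκ) ⊗ₜ[P] algebraMap A C a) = 0
      rw [IsScalarTower.algebraMap_apply A P C, Algebra.algebraMap_eq_smul_one (A := C),
        ← TensorProduct.smul_tmul, ← Algebra.algebraMap_eq_smul_one]
      have : algebraMap P Pκ (algebraMap A P a) = 0 := by
        show MvPolynomial.map (algebraMap A κ) (MvPolynomial.C a) = 0
        rw [map_C, IsScalarTower.algebraMap_apply A (A ⧸ 𝔮) κ, Ideal.Quotient.algebraMap_eq,
          Ideal.Quotient.eq_zero_iff_mem.2 ha, map_zero, map_zero]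
      rw [this, TensorProduct.zero_tmul, map_zero]
  -- `κ ⊗[A] C` is a localisation of `(A/𝔮) ⊗[A] C`
  haveI : Algebra.IsPushout A P κ Pκ := inferInstance
  let e := Algebra.IsPushout.cancelBaseChange A κ P Pκ C
  have h1 : (1 : κ) ⊗ₜ[A] b = 0 := by
    apply e.symm.injective
    simpa [e] using hzero
  let C₁ := (A ⧸ 𝔮) ⊗[A] C
  have h2 : (1 : κ) ⊗ₜ[A ⧸ 𝔮] ((1 : A ⧸ 𝔮) ⊗ₜ[A] b : C₁) = 0 := by
    apply (AlgebraTensorModule.cancelBaseChange A (A ⧸ 𝔮) κ κ C).injective
    simpa using h1
  obtain ⟨⟨s', hs'⟩, hsb⟩ := (IsLocalizedModule.eq_zero_iff (nonZeroDivisors (A ⧸ 𝔮))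
    (TensorProduct.mk (A ⧸ 𝔮) κ C₁ 1)).1 h2
  obtain ⟨s, rfl⟩ := Ideal.Quotient.mk_surjective s'
  refine ⟨s, fun hs => nonZeroDivisors.ne_zero hs' (Ideal.Quotient.eq_zero_iff_mem.2 hs), ?_⟩
  have h3 : (Ideal.Quotient.mk 𝔮 s) ⊗ₜ[A] b = 0 := by
    have : Ideal.Quotient.mk 𝔮 s • ((1 : A ⧸ 𝔮) ⊗ₜ[A] b : C₁) = 0 := hsb
    rwa [TensorProduct.smul_tmul', smul_eq_mul, mul_one] at this
  have h4 : Submodule.Quotient.mk (s • b) = (0 : C ⧸ (𝔮 • (⊤ : Submodule A C))) := by
    have := congrArg (TensorProduct.quotTensorEquivQuotSMul C 𝔮) h3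
    rwa [map_zero, TensorProduct.quotTensorEquivQuotSMul_mk_tmul] at this
  rw [Submodule.Quotient.mk_eq_zero, Ideal.smul_top_eq_map, Submodule.restrictScalars_mem] at h4
  rwa [← Algebra.smul_def]

/-- An element vanishing on all roots of unity is zero. -/
theorem eq_zero_of_forall_tmul_eq_zero (t : C)
    (h : ∀ N, t ⊗ₜ[MvPolynomial (Fin n) A] (1 : RtQ A n N) = 0) : t = 0 := by
  let P := MvPolynomial (Fin n) A
  haveI : Algebra.FiniteType A C := Algebra.FiniteType.trans (S := P) inferInstance inferInstance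
  haveI : IsNoetherianRing C := Algebra.FiniteType.isNoetherianRing A C
  refine Module.eq_zero_of_localization_maximal (fun Q _ => Localization.AtPrime Q)
    (fun Q _ => Algebra.linearMap C _) t fun Q hQ => ?_
  let 𝔮 : Ideal A := Q.comap (algebraMap A C)
  haveI : 𝔮.IsPrime := Ideal.comap_isPrime _ _
  have hone : (1 : A) ∉ 𝔮 := (Ideal.ne_top_iff_one _).1 (Ideal.IsPrime.ne_top ‹_›)
  have key : ∀ M : ℕ, algebraMap C (Localization.AtPrime Q) t ∈
      IsLocalRing.maximalIdeal (Localization.AtPrime Q) ^ M := by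
    intro M
    -- saturated ideals containing `𝔮 ^ M`
    suffices H : ∀ I : Ideal A, 𝔮 ^ M ≤ I → (∀ s a, s ∉ 𝔮 → s * a ∈ I → a ∈ I) →
        ∃ s ∉ 𝔮, algebraMap A C s * t ∈ I.map (algebraMap A C) by
      let I₀ : Ideal A :=
        { carrier := {a | ∃ s ∉ 𝔮, s * a ∈ 𝔮 ^ M}
          zero_mem' := ⟨1, hone, by simp⟩
          add_mem' := by
            rintro a b ⟨s, hs, hsa⟩ ⟨s', hs', hsb⟩
            refine ⟨s * s', fun hm => (Ideal.IsPrime.mem_or_mem ‹_› hm).elim hs hs', ?_⟩
            rw [mul_add]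
            exact add_mem (by rw [mul_right_comm]; exact Ideal.mul_mem_right _ _ hsa)
              (by rw [mul_assoc]; exact Ideal.mul_mem_left _ _ hsb)
          smul_mem' := by
            rintro c a ⟨s, hs, hsa⟩
            exact ⟨s, hs, by rw [smul_eq_mul, mul_left_comm]; exact Ideal.mul_mem_left _ _ hsa⟩ }
      obtain ⟨s, hs, hst⟩ := H I₀ (fun a ha => ⟨1, hone, by simpa using ha⟩)
        fun s a hs hsa => by
          obtain ⟨s', hs', h'⟩ := hsa
          exact ⟨s' * s, fun hm => (Ideal.IsPrime.mem_or_mem ‹_› hm).elim hs' hs, by rwa [mul_assoc]⟩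
      have hu : ∀ r ∉ 𝔮, IsUnit (algebraMap C (Localization.AtPrime Q) (algebraMap A C r)) := fun r hr =>
        IsLocalization.map_units (Localization.AtPrime Q) (⟨algebraMap A C r, hr⟩ : Q.primeCompl)
      have hle : I₀.map ((algebraMap C (Localization.AtPrime Q)).comp (algebraMap A C)) ≤
          IsLocalRing.maximalIdeal (Localization.AtPrime Q) ^ M := by
        rw [Ideal.map_le_iff_le_comap]
        rintro a ⟨r, hr, hra⟩
        have hm : ((algebraMap C (Localization.AtPrime Q)).comp (algebraMap A C)) (r * a) ∈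
            IsLocalRing.maximalIdeal (Localization.AtPrime Q) ^ M := by
          have hm0 := Ideal.mem_map_of_mem ((algebraMap C (Localization.AtPrime Q)).comp (algebraMap A C)) hra
          rw [Ideal.map_pow] at hm0
          refine Ideal.pow_right_mono ?_ M hm0
          rw [Ideal.map_le_iff_le_comap]
          intro x hx
          exact (IsLocalization.AtPrime.to_map_mem_maximal_iff (Localization.AtPrime Q) Q (algebraMap A C x)).2 hx
        rw [map_mul] at hm
        exact (Ideal.unit_mul_mem_iff_mem _ (hu r hr)).1 hm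
      have h5 := Ideal.mem_map_of_mem (algebraMap C (Localization.AtPrime Q)) hst
      rw [Ideal.map_map, map_mul] at h5
      exact (Ideal.unit_mul_mem_iff_mem _ (hu s hs)).1 (hle h5)
    intro I
    induction I using IsWellFounded.induction (α := Ideal A) (· > ·) with
    | _ I ih =>
      intro hMI hsat
      by_cases hIq : I ≤ 𝔮
      swap
      · obtain ⟨s, hsI, hs⟩ := SetLike.not_le_iff_exists.1 hIq
        exact ⟨s, hs, Ideal.mul_mem_right _ _ (Ideal.mem_map_of_mem _ hsI)⟩
      obtain ⟨e, heI, he⟩ : ∃ e ∉ I, ∀ a ∈ 𝔮, a * e ∈ I := by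
        classical
        have hex : ∃ m, 𝔮 ^ m ≤ I := ⟨M, hMI⟩
        have hm0 : Nat.find hex ≠ 0 := fun h0 => by
          have := (Nat.find_eq_zero hex).1 h0
          rw [pow_zero, Ideal.one_eq_top] at this
          exact hone (hIq (this Submodule.mem_top))
        obtain ⟨m, hm⟩ := Nat.exists_eq_succ_of_ne_zero hm0
        obtain ⟨e, he, heI⟩ := SetLike.not_le_iff_exists.1 (Nat.find_min hex (show m < Nat.find hex by omega))
        exact ⟨e, heI, fun a ha => Nat.find_spec hex (by rw [hm, pow_succ']; exact Ideal.mul_mem_mul ha he)⟩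
      let J := I ⊔ Ideal.span {e}
      let I' : Ideal A :=
        { carrier := {a | ∃ s ∉ 𝔮, s * a ∈ J}
          zero_mem' := ⟨1, hone, by simp⟩
          add_mem' := by
            rintro a b ⟨s, hs, hsa⟩ ⟨s', hs', hsb⟩
            refine ⟨s * s', fun hm => (Ideal.IsPrime.mem_or_mem ‹_› hm).elim hs hs', ?_⟩
            rw [mul_add]
            exact add_mem (by rw [mul_right_comm]; exact Ideal.mul_mem_right _ _ hsa)
              (by rw [mul_assoc]; exact Ideal.mul_mem_left _ _ hsb)
          smul_mem' := by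
            rintro c a ⟨s, hs, hsa⟩
            exact ⟨s, hs, by rw [smul_eq_mul, mul_left_comm]; exact Ideal.mul_mem_left _ _ hsa⟩ }
      have hJI' : J ≤ I' := fun a ha => ⟨1, hone, by simpa using ha⟩
      have hlt : I < I' := lt_of_le_of_ne ((le_sup_left : I ≤ J).trans hJI') fun heq =>
        heI (heq ▸ hJI' (le_sup_right (a := I) (Ideal.mem_span_singleton_self e)))
      obtain ⟨s, hs, hst⟩ := ih I' hlt (hMI.trans hlt.le) fun r a hr hra => by
        obtain ⟨r', hr', h'⟩ := hra
        exact ⟨r' * r, fun hm => (Ideal.IsPrime.mem_or_mem ‹_› hm).elim hr' hr, by rwa [mul_assoc]⟩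
      -- clear the denominators of `I'`
      obtain ⟨s', hs', hs'I⟩ : ∃ s' ∉ 𝔮, ∀ a ∈ I', s' * a ∈ J := by
        obtain ⟨G, hG⟩ := IsNoetherian.noetherian I'
        classical
        have hG' : ∀ a ∈ G, ∃ r ∉ 𝔮, r * a ∈ J := fun a ha =>
          (hG ▸ Submodule.subset_span ha : a ∈ I')
        choose! r hr hra using hG'
        refine ⟨∏ a ∈ G, r a, fun hm => by
          obtain ⟨a, ha, h'⟩ := (Ideal.IsPrime.prod_mem_iff (p := 𝔮)).1 hm
          exact hr a ha h', fun a ha => ?_⟩
        rw [← hG] at ha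
        induction ha using Submodule.span_induction with
        | mem x hx =>
          rw [← Finset.prod_erase_mul G r hx, mul_assoc]
          exact Ideal.mul_mem_left _ _ (hra x hx)
        | zero => simp
        | add x y _ _ hx hy => rw [mul_add]; exact add_mem hx hy
        | smul c x _ hx => rw [smul_eq_mul, mul_left_comm]; exact Ideal.mul_mem_left _ _ hx
      have hJt : algebraMap A C s' * (algebraMap A C s * t) ∈ J.map (algebraMap A C) := by
        refine Submodule.span_induction (p := fun x _ => algebraMap A C s' * x ∈ J.map (algebraMap A C))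
          ?_ ?_ ?_ ?_ hst
        · rintro _ ⟨a, ha, rfl⟩
          rw [← map_mul]; exact Ideal.mem_map_of_mem _ (hs'I a ha)
        · simp
        · intro x y _ _ hx hy; rw [mul_add]; exact add_mem hx hy
        · intro c x _ hx; rw [smul_eq_mul, mul_left_comm]; exact Ideal.mul_mem_left _ _ hx
      rw [Ideal.map_sup, Ideal.map_span, Set.image_singleton, Submodule.mem_sup] at hJt
      obtain ⟨i, hi, z, hz, hsum⟩ := hJt
      obtain ⟨b, rfl⟩ := Ideal.mem_span_singleton'.1 hz
      obtain ⟨r, hr, hrb⟩ := exists_mul_mem_of_fibre 𝔮 b fun N E _ φ hX hN hq => by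
        let T := RtQ A n N ⊗[P] C
        haveI : Algebra.Etale A (RtQ A n N) := rtQ_etale A n N
        haveI : Module.Flat A (RtQ A n N) := inferInstance
        haveI : Module.Flat (RtQ A n N) T := inferInstance
        haveI : Module.Flat A T := Module.Flat.trans A (RtQ A n N) T
        let ι : C →ₐ[A] T :=
          (Algebra.TensorProduct.includeRight (R := P) (A := RtQ A n N) (B := C)).restrictScalars A
        have hιt : ι t = 0 := by
          have := congrArg (TensorProduct.comm P C (RtQ A n N)) (h N)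
          rwa [TensorProduct.comm_tmul, map_zero] at this
        have hbar : e • ι b ∈ I • (⊤ : Submodule A T) := by
          have h0 : ι (algebraMap A C s' * (algebraMap A C s * t)) = 0 := by
            rw [map_mul, map_mul, hιt, mul_zero, mul_zero]
          have hid : I • (⊤ : Submodule A T) = (I.map (algebraMap A T)).restrictScalars A :=
            Ideal.smul_top_eq_map I
          rw [hid, Submodule.restrictScalars_mem, Algebra.smul_def (R := A) (A := T)]
          rw [← hsum, map_add, map_mul, AlgHom.commutes, add_comm, add_eq_zero_iff_eq_neg] at h0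
          rw [mul_comm, h0, neg_mem_iff]
          have hmem := Ideal.mem_map_of_mem ι.toRingHom hi
          rw [Ideal.map_map, show ι.toRingHom.comp (algebraMap A C) = algebraMap A T from ι.comp_algebraMap] at hmem
          exact hmem
        let mulE : (A ⧸ 𝔮) →ₗ[A] A ⧸ I := Submodule.liftQ 𝔮 (LinearMap.toSpanSingleton A (A ⧸ I) (Ideal.Quotient.mk I e))
          fun a ha => by
            rw [LinearMap.mem_ker, LinearMap.toSpanSingleton_apply, Algebra.smul_def, Ideal.Quotient.algebraMap_eq,
              ← map_mul, Ideal.Quotient.eq_zero_iff_mem]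
            exact he a ha
        have hmulE : Function.Injective mulE := by
          rw [← LinearMap.ker_eq_bot, LinearMap.ker_eq_bot']
          intro x hx
          obtain ⟨a, rfl⟩ := Submodule.Quotient.mk_surjective _ x
          rw [Submodule.Quotient.mk_eq_zero]
          by_contra ha
          refine heI (hsat a e ha ?_)
          have : Ideal.Quotient.mk I (a * e) = 0 := by
            rw [map_mul]; exact hx
          exact Ideal.Quotient.eq_zero_iff_mem.1 this
        have hb1 : (1 : A ⧸ 𝔮) ⊗ₜ[A] ι b = 0 := by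
          refine Module.Flat.rTensor_preserves_injective_linearMap (M := T) mulE hmulE ?_
          rw [map_zero, LinearMap.rTensor_tmul]
          apply (TensorProduct.quotTensorEquivQuotSMul T I).injective
          rw [map_zero, show mulE (1 : A ⧸ 𝔮) = Ideal.Quotient.mk I e from one_smul A (Ideal.Quotient.mk I e),
            TensorProduct.quotTensorEquivQuotSMul_mk_tmul, Submodule.Quotient.mk_eq_zero]
          exact hbar
        have hb2 : ι b ∈ (𝔮.map (algebraMap A T) : Ideal T) := by
          have := congrArg (TensorProduct.quotTensorEquivQuotSMul T 𝔮) hb1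
          rw [map_zero, ← map_one (Ideal.Quotient.mk 𝔮), TensorProduct.quotTensorEquivQuotSMul_mk_tmul,
            one_smul, Submodule.Quotient.mk_eq_zero, Ideal.smul_top_eq_map] at this
          exact this
        obtain ⟨ψ, hψ⟩ := exists_lift A n N (φ.comp (algebraMap P C)) hX hN
        letI : Algebra P E := (φ.comp (algebraMap P C)).toAlgebra
        let φ' : C →ₐ[P] E := { φ with commutes' := fun _ => rfl }
        let ψ' : RtQ A n N →ₐ[P] E := { ψ with commutes' := fun r => RingHom.congr_fun hψ r }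
        let Φ := Algebra.TensorProduct.lift ψ' φ' fun _ _ => .all _ _
        have hker : 𝔮.map (algebraMap A T) ≤ RingHom.ker Φ.toRingHom := by
          rw [Ideal.map_le_iff_le_comap]
          intro a ha
          rw [Ideal.mem_comap, RingHom.mem_ker]
          rw [← ι.commutes]
          show Φ ((1 : RtQ A n N) ⊗ₜ[P] algebraMap A C a) = 0
          rw [Algebra.TensorProduct.lift_tmul, map_one, one_mul]
          exact hq a ha
        have h7 : Φ ((1 : RtQ A n N) ⊗ₜ[P] b) = 0 := hker hb2
        rw [Algebra.TensorProduct.lift_tmul, map_one, one_mul] at h7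
        exact h7
      refine ⟨r * (s' * s), fun hm => ?_, ?_⟩
      · rcases Ideal.IsPrime.mem_or_mem ‹_› hm with h' | h'
        · exact hr h'
        · exact (Ideal.IsPrime.mem_or_mem ‹_› h').elim hs' hs
      · rw [map_mul, map_mul, mul_assoc, mul_assoc, ← hsum, mul_add, ← mul_assoc]
        refine add_mem (Ideal.mul_mem_left _ _ hi) ?_
        refine Submodule.span_induction (p := fun x _ => x * algebraMap A C e ∈ I.map (algebraMap A C))
          ?_ ?_ ?_ ?_ hrb
        · rintro _ ⟨a, ha, rfl⟩
          rw [← map_mul]; exact Ideal.mem_map_of_mem _ (he a ha)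
        · simp
        · intro x y _ _ hx hy; rw [add_mul]; exact add_mem hx hy
        · intro c x _ hx; rw [smul_eq_mul, mul_assoc]; exact Ideal.mul_mem_left _ _ hx
  show algebraMap C (Localization.AtPrime Q) t = 0
  have h6 : algebraMap C (Localization.AtPrime Q) t ∈
      ⨅ M, IsLocalRing.maximalIdeal (Localization.AtPrime Q) ^ M := Ideal.mem_iInf.2 key
  rwa [Ideal.iInf_pow_eq_bot_of_isLocalRing _ (IsLocalRing.maximalIdeal.isMaximal _).ne_top] at h6

end Groth.Agent.SmDense12
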