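import Groth.Agent.SmDense12.Core
import Groth.Agent.FlatOpen.Descend
import Groth.Agent.FlatOpen.FibreAPI

/-!
# Sections vanishing on all roots of unity, any base

Reduction to a Noetherian base by a flat finitely generated model.
-/

set_option autoImplicit false
universe u

namespace Groth.Agent.SmDense12

open MvPolynomial TensorProduct

/-- The step from a model over a Noetherian subring. -/
theorem model_eq_zero {A A₂ : Type u} [CommRing A] [CommRing A₂] [IsNoetherianRing A₂] [Algebra A₂ A]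
    (hinj : Function.Injective (algebraMap A₂ A)) {n : ℕ} {C C₀ : Type u} [CommRing C]
    [Algebra (MvPolynomial (Fin n) A) C] [CommRing C₀] [Algebra (MvPolynomial (Fin n) A₂) C₀] [Algebra A₂ C₀]
    [IsScalarTower A₂ (MvPolynomial (Fin n) A₂) C₀] [Module.Flat (MvPolynomial (Fin n) A₂) C₀]
    [Algebra.FiniteType (MvPolynomial (Fin n) A₂) C₀] (t : C) (τ₀ : C₀)
    (h : ∀ N, t ⊗ₜ[MvPolynomial (Fin n) A] (1 : RtQ A n N) = 0)
    (hext : ∀ (E : Type u) [CommRing E] (θ : A →+* E) (ψ : C₀ →+* E),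
      ψ.comp (algebraMap A₂ C₀) = θ.comp (algebraMap A₂ A) → ∃ φ : C →+* E, φ t = ψ τ₀ ∧
        ∀ j, φ (algebraMap (MvPolynomial (Fin n) A) C (X j)) = ψ (algebraMap (MvPolynomial (Fin n) A₂) C₀ (X j))) :
    τ₀ = 0 := by
  refine eq_zero_of_forall_tmul_eq_zero (A := A₂) (n := n) τ₀ fun N => ?_
  let P₂ := MvPolynomial (Fin n) A₂
  let D := RtQ A₂ n N ⊗[P₂] C₀
  haveI : Algebra.Etale A₂ (RtQ A₂ n N) := rtQ_etale A₂ n N
  haveI : Module.Flat (RtQ A₂ n N) D := inferInstance
  haveI : Module.Flat A₂ D := Module.Flat.trans A₂ (RtQ A₂ n N) D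
  let E := A ⊗[A₂] D
  have hinj' : Function.Injective (fun x : D => (1 : A) ⊗ₜ[A₂] x) := by
    have := (Module.Flat.rTensor_preserves_injective_linearMap (M := D) (Algebra.linearMap A₂ A)
      hinj).comp (TensorProduct.lid A₂ D).symm.injective
    convert this using 1
    funext x
    simp
  have hcomm : τ₀ ⊗ₜ[P₂] (1 : RtQ A₂ n N) = TensorProduct.comm P₂ _ _ ((1 : RtQ A₂ n N) ⊗ₜ[P₂] τ₀) :=
    (TensorProduct.comm_tmul _ _ _ _ _).symm
  rw [hcomm, show (1 : RtQ A₂ n N) ⊗ₜ[P₂] τ₀ = 0 from hinj' ?_, map_zero]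
  show (1 : A) ⊗ₜ[A₂] ((1 : RtQ A₂ n N) ⊗ₜ[P₂] τ₀) = (1 : A) ⊗ₜ[A₂] (0 : D)
  rw [TensorProduct.tmul_zero]
  let inD : D →ₐ[A₂] E := Algebra.TensorProduct.includeRight
  let inC : C₀ →ₐ[A₂] D := (Algebra.TensorProduct.includeRight (R := P₂) (A := RtQ A₂ n N) (B := C₀)).restrictScalars A₂
  obtain ⟨φ, hφt, hφX⟩ := hext E Algebra.TensorProduct.includeLeftRingHom (inD.comp inC).toRingHom
    (RingHom.ext fun a => ((inD.comp inC).commutes a).trans rfl)
  have hX : ∀ j, φ (algebraMap (MvPolynomial (Fin n) A) C (X j)) ^ N = 1 := fun j => by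
    rw [hφX]
    let q := algebraMap P₂ (RtQ A₂ n N) (X j)
    show inD.toRingHom (inC.toRingHom (algebraMap P₂ C₀ (X j))) ^ N = 1
    rw [← map_pow inD.toRingHom, show inC.toRingHom (algebraMap P₂ C₀ (X j)) = algebraMap (RtQ A₂ n N) D q from
      ((Algebra.TensorProduct.includeRight (R := P₂) (A := RtQ A₂ n N) (B := C₀)).commutes (X j)).trans
        (IsScalarTower.algebraMap_apply P₂ (RtQ A₂ n N) D (X j)),
      ← map_pow (algebraMap (RtQ A₂ n N) D), rtQ_X_pow]
    exact (congrArg inD.toRingHom (map_one _)).trans (map_one inD.toRingHom)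
  have hN : IsUnit (N : E) := by
    have := RingHom.isUnit_map (inD.toRingHom.comp (algebraMap (RtQ A₂ n N) D)) (rtQ_isUnit A₂ n N)
    rwa [map_natCast] at this
  have := map_eq_zero_of_tmul (h N) φ hX hN
  exact hφt.symm.trans this

/-- Let `C` be flat and of finite presentation over `A[x₁..xₙ]` and let `t` vanish in `C ⊗ RtQ A n N`
for every `N`. Then `t = 0`. -/
theorem eq_zero_of_forall_tmul_eq_zero' {A : Type u} [CommRing A] {n : ℕ} {C : Type u} [CommRing C]
    [Algebra (MvPolynomial (Fin n) A) C] [Algebra A C] [IsScalarTower A (MvPolynomial (Fin n) A) C]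
    [Module.Flat (MvPolynomial (Fin n) A) C] [Algebra.FinitePresentation (MvPolynomial (Fin n) A) C] (t : C)
    (h : ∀ N, t ⊗ₜ[MvPolynomial (Fin n) A] (1 : RtQ A n N) = 0) : t = 0 := by
  classical
  let P := MvPolynomial (Fin n) A
  haveI : Algebra.FinitePresentation A C := Algebra.FinitePresentation.trans A P C
  obtain ⟨A₁, C₁, _, _, _, _, hA₁, hft₁, hpo, hc⟩ := FlatOpen.exists_ring_model A C
    ({t} ∪ Finset.univ.image fun i => algebraMap P C (X i))
  haveI := hft₁
  haveI hpoi : Algebra.IsPushout A₁ A C₁ C := hpo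
  haveI : IsNoetherianRing A₁ := isNoetherianRing_of_fg hA₁
  obtain ⟨τ, hτ⟩ := hc t (Finset.mem_union_left _ (Finset.mem_singleton_self t))
  choose ξ hξ using fun i => hc (algebraMap P C (X i))
    (Finset.mem_union_right _ (Finset.mem_image.2 ⟨i, Finset.mem_univ i, rfl⟩))
  let P₁ := MvPolynomial (Fin n) A₁
  letI : Algebra P₁ C₁ := (aeval ξ).toRingHom.toAlgebra
  haveI : IsScalarTower A₁ P₁ C₁ := IsScalarTower.of_algebraMap_eq fun a => ((aeval ξ).commutes a).symm
  letI := MvPolynomial.algebraMvPolynomial (σ := Fin n) (R := A₁) (S := A)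
  letI : Algebra P₁ C := ((algebraMap C₁ C).comp (algebraMap P₁ C₁)).toAlgebra
  haveI : IsScalarTower P₁ C₁ C := IsScalarTower.of_algebraMap_eq fun _ => rfl
  haveI : IsScalarTower P₁ P C := IsScalarTower.of_algebraMap_eq' <| MvPolynomial.ringHom_ext
    (fun a => by
      show algebraMap C₁ C (aeval ξ (MvPolynomial.C a)) = algebraMap P C (MvPolynomial.map _ (MvPolynomial.C a))
      rw [aeval_C, MvPolynomial.map_C, ← IsScalarTower.algebraMap_apply, IsScalarTower.algebraMap_apply A₁ A C,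
        IsScalarTower.algebraMap_apply A P C]
      rfl)
    (fun i => by
      show algebraMap C₁ C (aeval ξ (X i)) = algebraMap P C (MvPolynomial.map _ (X i))
      rw [aeval_X, MvPolynomial.map_X]
      exact hξ i)
  haveI : Algebra.FiniteType P₁ C₁ := Algebra.FiniteType.of_restrictScalars_finiteType A₁ P₁ C₁
  haveI : Algebra.FinitePresentation P₁ C₁ := Algebra.FinitePresentation.of_finiteType.1 inferInstance
  haveI : Algebra.IsPushout P₁ P C₁ C := by
    haveI : Algebra.IsPushout A₁ P₁ A P := Algebra.IsPushout.symm inferInstance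
    haveI : Algebra.IsPushout A₁ C₁ A C := Algebra.IsPushout.symm inferInstance
    exact Algebra.IsPushout.symm ((Algebra.IsPushout.comp_iff A₁ P₁ A P (T := C₁) (T' := C)).1 inferInstance)
  haveI : Module.Flat P (P ⊗[P₁] C₁) := Module.Flat.of_linearEquiv (Algebra.IsPushout.equiv P₁ P C₁ C).toLinearEquiv
  -- a flat stage
  let ι := {A₂ : Subalgebra ℤ A // A₂.FG ∧ A₁ ≤ A₂}
  let G : ι → Type u := fun i => MvPolynomial (Fin n) i.1
  letI : ∀ i : ι, Algebra P₁ (G i) := fun i =>
    (MvPolynomial.map (σ := Fin n) (Subalgebra.inclusion i.2.2).toRingHom).toAlgebra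
  letI : ∀ i : ι, Algebra (G i) P := fun i => (MvPolynomial.map (σ := Fin n) i.1.val.toRingHom).toAlgebra
  haveI : ∀ i : ι, IsScalarTower P₁ (G i) P := fun i => IsScalarTower.of_algebraMap_eq fun p => by
    show MvPolynomial.map (algebraMap A₁ A) p = MvPolynomial.map i.1.val.toRingHom (MvPolynomial.map _ p)
    rw [MvPolynomial.map_map]
    rfl
  let g : ∀ i j : ι, i ≤ j → G i →+* G j := fun i j hij =>
    MvPolynomial.map (Subalgebra.inclusion (show i.1 ≤ j.1 from hij)).toRingHom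
  obtain ⟨⟨A₂, hA₂, hle⟩, hflat⟩ := FlatOpen.exists_stage_flat (A₀ := P₁) G g
    (fun i j hij => RingHom.ext fun p => (MvPolynomial.map_map _ _ p).trans rfl) P
    (by
      refine ⟨⟨fun i j => ⟨⟨i.1 ⊔ j.1, i.2.1.sup j.2.1, i.2.2.trans le_sup_left⟩,
        le_sup_left (a := i.1) (b := j.1), le_sup_right (a := i.1) (b := j.1)⟩⟩,
        ⟨⟨A₁, hA₁, le_rfl⟩⟩, fun i => ?_, fun i j k hij hjk => ?_, fun i j hij => ?_, fun a => ?_,
        fun i x hx => ⟨i, le_rfl, ?_⟩⟩
      · exact RingHom.ext fun p => MvPolynomial.map_id p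
      · exact RingHom.ext fun p => MvPolynomial.map_map _ _ p
      · exact RingHom.ext fun p => MvPolynomial.map_map _ _ p
      · let B := A₁ ⊔ Algebra.adjoin ℤ (a.coeffs : Set A)
        have hB : B.FG := hA₁.sup ⟨a.coeffs, rfl⟩
        obtain ⟨x, hx⟩ := MvPolynomial.mem_range_map_iff_coeffs_subset.2
          (show (a.coeffs : Set A) ⊆ Set.range (B.val.toRingHom) from fun c hc =>
            ⟨⟨c, (le_sup_right : _ ≤ B) (Algebra.subset_adjoin hc)⟩, rfl⟩)
        exact ⟨⟨B, hB, le_sup_left⟩, x, hx⟩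
      · have : x = 0 := MvPolynomial.map_injective _ Subtype.val_injective
          (hx.trans (map_zero (MvPolynomial.map i.1.val.toRingHom)).symm)
        simp [this])
    (B₀ := C₁) C₁
  let i₀ : ι := ⟨A₂, hA₂, hle⟩
  let C₀ := G i₀ ⊗[P₁] C₁
  haveI : Module.Flat (G i₀) C₀ := hflat
  haveI : IsNoetherianRing A₂ := isNoetherianRing_of_fg hA₂
  letI : Algebra (MvPolynomial (Fin n) A₂) C₀ := inferInstanceAs (Algebra (G i₀) C₀)
  haveI : Module.Flat (MvPolynomial (Fin n) A₂) C₀ := hflat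
  haveI : Algebra.FiniteType (MvPolynomial (Fin n) A₂) C₀ := inferInstanceAs (Algebra.FiniteType (G i₀) C₀)
  haveI : IsScalarTower A₂ (MvPolynomial (Fin n) A₂) C₀ := inferInstanceAs (IsScalarTower A₂ (G i₀) C₀)
  let τ₀ : C₀ := (1 : G i₀) ⊗ₜ[P₁] τ
  have hτ₀ : τ₀ = 0 := by
    refine model_eq_zero (A := A) (A₂ := A₂) (n := n) (show Function.Injective (algebraMap A₂ A) from Subtype.val_injective) t τ₀ h fun E _ θ ψ hψθ => ?_
    letI : Algebra A₁ A₂ := (Subalgebra.inclusion hle).toRingHom.toAlgebra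
    letI : Algebra A₁ E := (θ.comp (algebraMap A₁ A)).toAlgebra
    let θ' : A →ₐ[A₁] E := { θ with commutes' := fun _ => rfl }
    let j₁ : C₁ →+* C₀ := (Algebra.TensorProduct.includeRight (R := P₁) (A := G i₀) (B := C₁)).toRingHom
    have hj : ∀ p : P₁, j₁ (algebraMap P₁ C₁ p) = algebraMap (G i₀) C₀ (algebraMap P₁ (G i₀) p) := fun p =>
      ((Algebra.TensorProduct.includeRight (R := P₁) (A := G i₀) (B := C₁)).commutes p).trans
        (IsScalarTower.algebraMap_apply P₁ (G i₀) C₀ p)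
    let ψ' : C₁ →ₐ[A₁] E :=
      { ψ.comp j₁ with
        commutes' := fun a => by
          show ψ (j₁ (algebraMap A₁ C₁ a)) = θ (algebraMap A₁ A a)
          rw [IsScalarTower.algebraMap_apply A₁ P₁ C₁, hj,
            show algebraMap P₁ (G i₀) (algebraMap A₁ P₁ a) = algebraMap A₂ (G i₀) (algebraMap A₁ A₂ a) from
              MvPolynomial.map_C _ a]
          exact RingHom.congr_fun hψθ (algebraMap A₁ A₂ a) }
    let φ : C →+* E := (Algebra.TensorProduct.lift θ' ψ' fun _ _ => .all _ _).toRingHom.comp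
      (Algebra.IsPushout.equiv A₁ A C₁ C).symm.toRingEquiv.toRingHom
    have hφ : ∀ x : C₁, φ (algebraMap C₁ C x) = ψ (j₁ x) := fun x => by
      show Algebra.TensorProduct.lift θ' ψ' (fun _ _ => .all _ _) ((Algebra.IsPushout.equiv A₁ A C₁ C).symm (algebraMap C₁ C x)) = _
      rw [Algebra.IsPushout.equiv_symm_algebraMap_right, Algebra.TensorProduct.lift_tmul, map_one, one_mul]
      rfl
    refine ⟨φ, by rw [← hτ, hφ]; rfl, fun j => ?_⟩
    rw [← hξ j, hφ, show ξ j = algebraMap P₁ C₁ (X j) from (aeval_X ξ j).symm, hj,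
      show algebraMap P₁ (G i₀) (X j) = X j from MvPolynomial.map_X _ j]
  -- back to `C`
  let χ : C₀ →ₐ[P₁] C := Algebra.TensorProduct.lift ((IsScalarTower.toAlgHom P₁ P C).comp
    (IsScalarTower.toAlgHom P₁ (G i₀) P)) (IsScalarTower.toAlgHom P₁ C₁ C) fun _ _ => .all _ _
  have := congrArg χ hτ₀
  rw [map_zero, Algebra.TensorProduct.lift_tmul, map_one, one_mul] at this
  rw [← hτ]
  exact this

end Groth.Agent.SmDense12
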