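import Mathlib

/-!
# Roots of unity in affine space

`RtQ A n N` is `A[x₁..xₙ]/(xᵢ^N - 1)` with `N` inverted; it is etale over `A`.
-/

set_option autoImplicit false
universe u

namespace Groth.Agent.SmDense12

open MvPolynomial

variable (A : Type u) [CommRing A] (n N : ℕ)

/-- The ideal of the `N`-th roots of unity. -/
noncomputable def rtIdeal : Ideal (MvPolynomial (Fin n) A) :=
  Ideal.span (Set.range fun i => X i ^ N - 1)

/-- The `N`-th roots of unity, away from the characteristics dividing `N`. -/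
abbrev RtQ : Type u :=
  Localization.Away ((N : MvPolynomial (Fin n) A ⧸ rtIdeal A n N))

theorem rtQ_X_pow (i : Fin n) :
    algebraMap (MvPolynomial (Fin n) A) (RtQ A n N) (X i) ^ N = 1 := by
  rw [← map_pow, IsScalarTower.algebraMap_apply (MvPolynomial (Fin n) A) (MvPolynomial (Fin n) A ⧸ rtIdeal A n N)]
  have h : algebraMap (MvPolynomial (Fin n) A) (MvPolynomial (Fin n) A ⧸ rtIdeal A n N) (X i ^ N) = 1 := by
    rw [Ideal.Quotient.algebraMap_eq, ← map_one (Ideal.Quotient.mk (rtIdeal A n N)), Ideal.Quotient.eq]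
    exact Ideal.subset_span ⟨i, rfl⟩
  rw [h, map_one]

theorem rtQ_isUnit : IsUnit (N : RtQ A n N) := by
  have h := IsLocalization.Away.algebraMap_isUnit (S := RtQ A n N) (N : MvPolynomial (Fin n) A ⧸ rtIdeal A n N)
  rwa [map_natCast] at h

/-- The universal property. -/
theorem exists_lift {E : Type u} [CommRing E] (φ : MvPolynomial (Fin n) A →+* E)
    (hX : ∀ i, φ (X i) ^ N = 1) (hN : IsUnit (N : E)) :
    ∃ ψ : RtQ A n N →+* E, ψ.comp (algebraMap (MvPolynomial (Fin n) A) (RtQ A n N)) = φ := by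
  have hker : ∀ a ∈ rtIdeal A n N, φ a = 0 := fun a ha => by
    refine (Ideal.span_le (I := RingHom.ker φ)).2 ?_ ha
    rintro _ ⟨i, rfl⟩
    simp [hX i]
  let φ₁ := Ideal.Quotient.lift (rtIdeal A n N) φ hker
  refine ⟨IsLocalization.Away.lift (N : MvPolynomial (Fin n) A ⧸ rtIdeal A n N) (g := φ₁) (by rwa [map_natCast]),
    RingHom.ext fun a => ?_⟩
  rw [RingHom.comp_apply, IsScalarTower.algebraMap_apply _ (MvPolynomial (Fin n) A ⧸ rtIdeal A n N),
    IsLocalization.Away.lift_eq]
  rfl

theorem hom_ext {E : Type u} [CommRing E] {ψ ψ' : RtQ A n N →+* E}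
    (h : ψ.comp (algebraMap (MvPolynomial (Fin n) A) (RtQ A n N)) =
      ψ'.comp (algebraMap (MvPolynomial (Fin n) A) (RtQ A n N))) : ψ = ψ' := by
  refine IsLocalization.ringHom_ext (Submonoid.powers (N : MvPolynomial (Fin n) A ⧸ rtIdeal A n N)) ?_
  refine Ideal.Quotient.ringHom_ext ?_
  rw [RingHom.comp_assoc, RingHom.comp_assoc, ← Ideal.Quotient.algebraMap_eq,
    ← IsScalarTower.algebraMap_eq]
  exact h

theorem rtQ_finitePresentation : Algebra.FinitePresentation A (RtQ A n N) := by
  haveI : Algebra.FinitePresentation A (MvPolynomial (Fin n) A ⧸ rtIdeal A n N) :=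
    Algebra.FinitePresentation.quotient ⟨(Set.finite_range fun i => (X i : MvPolynomial (Fin n) A) ^ N - 1).toFinset,
      by simp [rtIdeal]⟩
  haveI := IsLocalization.Away.finitePresentation (S := RtQ A n N) (N : MvPolynomial (Fin n) A ⧸ rtIdeal A n N)
  exact Algebra.FinitePresentation.trans A (MvPolynomial (Fin n) A ⧸ rtIdeal A n N) _

theorem rtQ_formallyEtale : Algebra.FormallyEtale A (RtQ A n N) := by
  rw [Algebra.FormallyEtale.iff_comp_bijective]
  intro B _ _ I hI
  let ι := IsScalarTower.toAlgHom A (MvPolynomial (Fin n) A) (RtQ A n N)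
  have hsq : ∀ d ∈ I, ∀ d' ∈ I, d * d' = 0 := fun d hd d' hd' => by
    have := Ideal.mul_mem_mul hd hd'
    rw [← pow_two, hI] at this
    exact this
  have hpow : ∀ a d : B, d ∈ I → (a + d) ^ N = a ^ N + (N : B) * a ^ (N - 1) * d := fun a d hd => by
    generalize N = m
    induction m with
    | zero => simp
    | succ m ih =>
      rw [pow_succ, ih, pow_succ]
      cases m with
      | zero => simp
      | succ k =>
        simp only [Nat.cast_succ, add_tsub_cancel_right]
        linear_combination ((k : B) + 1) * a ^ k * hsq d hd d hd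
  constructor
  · intro ψ ψ' h
    refine AlgHom.coe_ringHom_injective (hom_ext A n N ?_)
    refine congrArg AlgHom.toRingHom (algHom_ext (f := ψ.comp ι) (g := ψ'.comp ι) fun i => ?_)
    show ψ (ι (X i)) = ψ' (ι (X i))
    have hd : ψ (ι (X i)) - ψ' (ι (X i)) ∈ I := Ideal.Quotient.eq.1 (DFunLike.congr_fun h (ι (X i)))
    have h1 : ψ (ι (X i)) ^ N = 1 := by rw [← map_pow, show ι (X i) ^ N = 1 from rtQ_X_pow A n N i, map_one]
    have h2 : ψ' (ι (X i)) ^ N = 1 := by rw [← map_pow, show ι (X i) ^ N = 1 from rtQ_X_pow A n N i, map_one]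
    have h3 := hpow (ψ' (ι (X i))) _ hd
    rw [add_sub_cancel, h1, h2, left_eq_add] at h3
    have hu : IsUnit ((N : B) * ψ' (ι (X i)) ^ (N - 1)) := by
      refine IsUnit.mul ?_ ?_
      · simpa using (rtQ_isUnit A n N).map ψ'
      · rcases Nat.eq_zero_or_pos N with h0 | h0
        · simp [h0]
        · exact ((isUnit_pow_iff h0.ne').1 (h2 ▸ isUnit_one)).pow _
    exact sub_eq_zero.1 (hu.mul_right_eq_zero.1 h3)
  · intro φ
    have hN : IsUnit (N : B) := by
      refine (IsNilpotent.isUnit_quotient_mk_iff (I := I) ⟨2, hI⟩).1 ?_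
      simpa using (rtQ_isUnit A n N).map φ
    have hex : ∀ i, ∃ a : B, Ideal.Quotient.mk I a = φ (ι (X i)) ∧ a ^ N = 1 := fun i => by
      obtain ⟨a, ha⟩ := Ideal.Quotient.mk_surjective (φ (ι (X i)))
      have hφ : φ (ι (X i)) ^ N = 1 := by rw [← map_pow, show ι (X i) ^ N = 1 from rtQ_X_pow A n N i, map_one]
      have hmem : a ^ N - 1 ∈ I := by
        rw [← Ideal.Quotient.eq_zero_iff_mem, map_sub, map_pow, ha, hφ, map_one, sub_self]
      obtain ⟨v, hv⟩ := hN.exists_left_inv
      refine ⟨a + -(v * a * (a ^ N - 1)), ?_, ?_⟩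
      · rw [map_add, map_neg, map_mul _ _ (a ^ N - 1), Ideal.Quotient.eq_zero_iff_mem.2 hmem, mul_zero, neg_zero,
          add_zero, ha]
      · rw [hpow _ _ (I.neg_mem (I.mul_mem_left _ hmem))]
        rcases Nat.eq_zero_or_pos N with h0 | h0
        · subst h0; simp
        · have e : a ^ (N - 1) * a = a ^ N := by rw [← pow_succ, Nat.sub_add_cancel h0]
          have h5 := hsq _ hmem _ hmem
          linear_combination (-(v * (N : B)) * (a ^ N - 1)) * e - (a ^ N * (a ^ N - 1)) * hv - h5
    choose a ha ha' using hex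
    obtain ⟨ψ, hψ⟩ := exists_lift A n N (E := B) (aeval a).toRingHom
      (fun i => by simpa using ha' i) hN
    refine ⟨{ ψ with commutes' := fun r => ?_ }, ?_⟩
    · have := RingHom.congr_fun hψ (C r)
      simpa [IsScalarTower.algebraMap_apply A (MvPolynomial (Fin n) A) (RtQ A n N), MvPolynomial.algebraMap_eq] using this
    · refine AlgHom.coe_ringHom_injective (hom_ext A n N ?_)
      refine congrArg AlgHom.toRingHom (algHom_ext (f := AlgHom.comp ((Ideal.Quotient.mkₐ A I).comp _) ι)
        (g := φ.comp ι) fun i => ?_)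
      show Ideal.Quotient.mk I (ψ (ι (X i))) = φ (ι (X i))
      rw [← ha i]
      exact congrArg _ ((RingHom.congr_fun hψ (X i)).trans (by simp))

theorem rtQ_etale : Algebra.Etale A (RtQ A n N) :=
  ⟨rtQ_formallyEtale A n N, rtQ_finitePresentation A n N⟩

end Groth.Agent.SmDense12
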